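import Mathlib
import Cfsg.Agent.Helper9.Recog

set_option autoImplicit false

namespace Cfsg.Agent.Helper23

open Cfsg.Agent.Helper9

/-- Two elements `a, b` with `a` of order `4`, `b² = a²`, `b a b⁻¹ = a⁻¹` generate a copy of the
quaternion group of order `8`: an injective homomorphism with range `closure {a, b}`. -/
theorem quat_hom {D : Type*} [Group D] (a b : D) (ha : orderOf a = 4) (hb : b * b = a ^ 2)
    (hab : b * a * b⁻¹ = a⁻¹) :
    ∃ F : QuaternionGroup 2 →* D, Function.Injective F ∧ F.range = Subgroup.closure {a, b} ∧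
      F (QuaternionGroup.a 1) = a ∧ F (QuaternionGroup.xa 0) = b := by
  have hk : a ^ (2 * 2) = 1 := by
    have := pow_orderOf_eq_one a
    rw [ha] at this; exact this
  have ha' : orderOf a = 2 * 2 := ha
  have hnot : b ∉ Subgroup.zpowers a := by
    intro hmem
    obtain ⟨k, hk2⟩ := Subgroup.mem_zpowers_iff.mp hmem
    have hcomm : b * a = a * b := by
      rw [← hk2, ← zpow_add_one, ← zpow_one_add, add_comm]
    have h1 : b * a * b⁻¹ = a := by rw [hcomm]; group
    rw [h1] at hab
    have h2 : a ^ 2 = 1 := by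
      rw [pow_two]
      nth_rewrite 1 [hab]
      exact inv_mul_cancel a
    have h3 := orderOf_dvd_of_pow_eq_one h2
    rw [ha] at h3
    omega
  have hbb : b * b = zpw (2 * 2) a ((2 : ℕ) : ZMod (2 * 2)) := by rw [hb, zpw_natCast hk]
  let f : QuaternionGroup 2 → D := fun g =>
    match g with
    | QuaternionGroup.a i => zpw (2 * 2) a i
    | QuaternionGroup.xa i => b * zpw (2 * 2) a i
  have hmul : ∀ g h : QuaternionGroup 2, f (g * h) = f g * f h := by
    intro g h
    rcases g with i | i <;> rcases h with j | j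
    · show zpw (2 * 2) a (i + j) = zpw (2 * 2) a i * zpw (2 * 2) a j
      exact zpw_add hk i j
    · show b * zpw (2 * 2) a (j - i) = zpw (2 * 2) a i * (b * zpw (2 * 2) a j)
      rw [← mul_assoc, zpw_mul_inv_conj hk hab, mul_assoc, ← zpw_add hk]
      congr 2; ring
    · show b * zpw (2 * 2) a (i + j) = b * zpw (2 * 2) a i * zpw (2 * 2) a j
      rw [zpw_add hk, mul_assoc]
    · show zpw (2 * 2) a (((2 : ℕ) : ZMod (2 * 2)) + j - i) =
        b * zpw (2 * 2) a i * (b * zpw (2 * 2) a j)
      rw [inv_conj_zpw hk hab, mul_assoc, ← mul_assoc b b, hbb, ← zpw_add hk, ← zpw_add hk]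
      congr 1; ring
  let F : QuaternionGroup 2 →* D := MonoidHom.mk' f hmul
  have hinj : Function.Injective F := by
    intro g h hgh
    have hgh' : f g = f h := hgh
    rcases g with i | i <;> rcases h with j | j
    · have : zpw (2 * 2) a i = zpw (2 * 2) a j := hgh'
      rw [zpw_inj ha' this]
    · exfalso
      have h1 : zpw (2 * 2) a i = b * zpw (2 * 2) a j := hgh'
      apply hnot
      have : b = zpw (2 * 2) a i * (zpw (2 * 2) a j)⁻¹ := by rw [h1]; group
      rw [this]
      exact Subgroup.mul_mem _ (zpw_mem_zpowers i) (Subgroup.inv_mem _ (zpw_mem_zpowers j))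
    · exfalso
      have h1 : b * zpw (2 * 2) a i = zpw (2 * 2) a j := hgh'
      apply hnot
      have : b = zpw (2 * 2) a j * (zpw (2 * 2) a i)⁻¹ := by rw [← h1]; group
      rw [this]
      exact Subgroup.mul_mem _ (zpw_mem_zpowers j) (Subgroup.inv_mem _ (zpw_mem_zpowers i))
    · have h1 : b * zpw (2 * 2) a i = b * zpw (2 * 2) a j := hgh'
      rw [zpw_inj ha' (mul_left_cancel h1)]
  have hF1 : F (QuaternionGroup.a 1) = a := zpw_one hk
  have hF2 : F (QuaternionGroup.xa 0) = b := by
    show b * zpw (2 * 2) a 0 = b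
    rw [zpw_zero, mul_one]
  refine ⟨F, hinj, ?_, hF1, hF2⟩
  apply le_antisymm
  · rintro _ ⟨g, rfl⟩
    have hza : Subgroup.zpowers a ≤ Subgroup.closure {a, b} := by
      rw [Subgroup.zpowers_le]; exact Subgroup.subset_closure (by simp)
    rcases g with i | i
    · exact hza (zpw_mem_zpowers i)
    · exact Subgroup.mul_mem _ (Subgroup.subset_closure (by simp)) (hza (zpw_mem_zpowers i))
  · rw [Subgroup.closure_le]
    intro z hz
    rcases hz with rfl | rfl
    · exact ⟨QuaternionGroup.a 1, zpw_one hk⟩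
    · refine ⟨QuaternionGroup.xa 0, ?_⟩
      show z * zpw (2 * 2) a 0 = z
      rw [zpw_zero, mul_one]

/-- the subgroup version -/
theorem quat_closure {D : Type*} [Group D] (a b : D) (ha : orderOf a = 4) (hb : b * b = a ^ 2)
    (hab : b * a * b⁻¹ = a⁻¹) :
    Nonempty (↥(Subgroup.closure {a, b}) ≃* QuaternionGroup 2) := by
  obtain ⟨F, hinj, hrange, -, -⟩ := quat_hom a b ha hb hab
  exact ⟨(MulEquiv.subgroupCongr hrange.symm).trans (MonoidHom.ofInjective hinj).symm⟩

/-- the only elements of `Q₈` commuting with both generators are `1` and the central involution -/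
theorem quat_center_cases (q : QuaternionGroup 2)
    (h1 : q * QuaternionGroup.a 1 = QuaternionGroup.a 1 * q)
    (h2 : q * QuaternionGroup.xa 0 = QuaternionGroup.xa 0 * q) :
    q = 1 ∨ q = QuaternionGroup.a 1 * QuaternionGroup.a 1 := by
  revert q
  decide

end Cfsg.Agent.Helper23
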