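import Mathlib
import Cfsg.Prelude.Def_Transfer

/-!
Pieces (1) and (4) of the team proof of S4016 (simple minimal counterexample):
subgroups containing the normaliser of the cyclic Sylow subgroup, TI property.
-/

set_option autoImplicit false

namespace Cfsg.Agent.S4016P

/-- In a group with a normal `p`-complement, the normaliser of a commutative Sylow `p`-subgroup
centralises it. -/
theorem npc_norm_le_cent {H : Type*} [Group H] [Finite H] {p : ℕ} [Fact p.Prime]
    (P : Sylow p H)
    (hPc : ∀ a ∈ (P : Subgroup H), ∀ b ∈ (P : Subgroup H), a * b = b * a)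
    (hnpc : Cfsg.HasNormalPComplement p H) :
    Subgroup.normalizer ((P : Subgroup H) : Set H) ≤
      Subgroup.centralizer ((P : Subgroup H) : Set H) := by
  obtain ⟨P1, K, hK, hKP⟩ := hnpc
  have h2 : Nat.card (P1 : Subgroup H) = Nat.card (P : Subgroup H) := by
    rw [Sylow.card_eq_multiplicity, Sylow.card_eq_multiplicity]
  have hcard : Nat.card K * Nat.card (P : Subgroup H) = Nat.card H := by
    rw [← h2]; exact hKP.card_mul_card
  have hcop : Nat.Coprime (Nat.card K) (Nat.card (P : Subgroup H)) := by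
    have h1 := P1.card_coprime_index
    have h3 : (P1 : Subgroup H).index = Nat.card K := hKP.index_eq_card
    rw [h3, h2] at h1
    exact h1.symm
  have hcomp : Subgroup.IsComplement' K (P : Subgroup H) :=
    Subgroup.isComplement'_of_coprime hcard hcop
  intro n hn
  rw [Subgroup.mem_centralizer_iff]
  intro v hv
  obtain ⟨⟨k, u⟩, hku, -⟩ := Subgroup.IsComplement.existsUnique hcomp n
  simp only at hku
  have hkN : (k : H) ∈ Subgroup.normalizer ((P : Subgroup H) : Set H) := by
    have : (k : H) = n * (u : H)⁻¹ := by rw [← hku]; group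
    rw [this]; exact mul_mem hn (inv_mem (Subgroup.le_normalizer u.2))
  have hc1 : (k : H) * v * (k : H)⁻¹ * v⁻¹ ∈ (P : Subgroup H) :=
    mul_mem ((Subgroup.mem_normalizer_iff.mp hkN v).mp hv) (inv_mem hv)
  have hc2 : (k : H) * v * (k : H)⁻¹ * v⁻¹ ∈ K := by
    have : (k : H) * v * (k : H)⁻¹ * v⁻¹ = k * (v * (k : H)⁻¹ * v⁻¹) := by group
    rw [this]; exact mul_mem k.2 (hK.conj_mem _ (inv_mem k.2) v)
  have hc : (k : H) * v * (k : H)⁻¹ * v⁻¹ = 1 :=
    (Subgroup.disjoint_def.mp hcomp.disjoint) hc2 hc1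
  have hkv : (k : H) * v = v * k := by
    have : (k : H) * v * (k : H)⁻¹ * v⁻¹ * (v * k) = v * k := by rw [hc, one_mul]
    rw [← this]; group
  have huv : (u : H) * v = v * u := hPc u u.2 v hv
  rw [← hku, ← mul_assoc, ← hkv, mul_assoc, mul_assoc, huv]

/-- commutativity of a cyclic Sylow subgroup, elementwise -/
theorem cyc_comm {G : Type*} [Group G] {P : Subgroup G} (hcyc : IsCyclic P) :
    ∀ a ∈ P, ∀ b ∈ P, a * b = b * a := by
  intro a ha b hb
  have h := mul_comm' (⟨a, ha⟩ : P) ⟨b, hb⟩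
  exact congrArg Subtype.val h

/-- a simple group with a nontrivial normal-complemented Sylow subgroup satisfying
`N(P) ≤ C(P)` is commutative: contradiction form -/
theorem not_norm_le_cent {G : Type*} [Group G] [Finite G] {p : ℕ} [Fact p.Prime]
    [IsSimpleGroup G] (hna : ∃ a b : G, a * b ≠ b * a) (P : Sylow p G) (hcyc : IsCyclic P)
    (hP1 : (P : Subgroup G) ≠ ⊥) :
    ¬ Subgroup.normalizer ((P : Subgroup G) : Set G) ≤
      Subgroup.centralizer ((P : Subgroup G) : Set G) := by
  intro h2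
  have hc := MonoidHom.ker_transferSylow_isComplement' P h2
  rcases (inferInstance : (MonoidHom.transferSylow P h2).ker.Normal).eq_bot_or_eq_top with hb | ht
  · rw [hb] at hc
    have hPt : (P : Subgroup G) = ⊤ := Subgroup.isComplement'_bot_left.mp hc
    obtain ⟨a, b, hab⟩ := hna
    exact hab (cyc_comm hcyc a (hPt ▸ Subgroup.mem_top a) b (hPt ▸ Subgroup.mem_top b))
  · rw [ht] at hc
    exact hP1 (Subgroup.isComplement'_top_left.mp hc)

/-- **Core**: a proper subgroup containing `N(P)` equals `N(P)`. -/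
theorem eq_norm_of_ge {G : Type*} [Group G] [Finite G] {p : ℕ} [Fact p.Prime] [IsSimpleGroup G]
    (hna : ∃ a b : G, a * b ≠ b * a) (P : Sylow p G) (hcyc : IsCyclic P)
    (hP1 : (P : Subgroup G) ≠ ⊥)
    (hmin : ∀ H : Subgroup G, H ≠ ⊤ → ∀ P1 : Sylow p H,
      Cfsg.HasNormalPComplement p H ∨ (P1 : Subgroup H).Normal)
    (H : Subgroup G) (hH : H ≠ ⊤)
    (hNH : Subgroup.normalizer ((P : Subgroup G) : Set G) ≤ H) :
    H = Subgroup.normalizer ((P : Subgroup G) : Set G) := by
  have hPH : (P : Subgroup G) ≤ H := le_trans Subgroup.le_normalizer hNH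
  have hPc := cyc_comm hcyc
  rcases hmin H hH (P.subtype hPH) with hnpc | hnorm
  · exfalso
    have h1 := npc_norm_le_cent (P.subtype hPH) (by
      intro a ha b hb
      rw [Sylow.coe_subtype, Subgroup.mem_subgroupOf] at ha hb
      exact Subtype.ext (hPc _ ha _ hb)) hnpc
    apply not_norm_le_cent hna P hcyc hP1
    intro n hn
    rw [Subgroup.mem_centralizer_iff]
    intro v hv
    have hnH : n ∈ H := hNH hn
    have h3 : (⟨n, hnH⟩ : H) ∈
        Subgroup.normalizer (((P.subtype hPH : Sylow p H) : Subgroup H) : Set H) := by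
      rw [Subgroup.mem_normalizer_iff]
      intro h
      rw [Sylow.coe_subtype, Subgroup.mem_subgroupOf, Subgroup.mem_subgroupOf]
      exact Subgroup.mem_normalizer_iff.mp hn h
    have h4 := h1 h3
    rw [Subgroup.mem_centralizer_iff] at h4
    have h5 := h4 ⟨v, hPH hv⟩ (by
      rw [SetLike.mem_coe, Sylow.coe_subtype, Subgroup.mem_subgroupOf]; exact hv)
    exact congrArg Subtype.val h5
  · apply le_antisymm _ hNH
    rw [Sylow.coe_subtype] at hnorm
    exact (Subgroup.normal_subgroupOf_iff_le_normalizer hPH).mp hnorm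

/-- an element normalising a cyclic subgroup acts on it as a power map -/
theorem cyc_conj_pow {G : Type*} [Group G] (P : Subgroup G) (hcyc : IsCyclic P) {x : G}
    (hx : x ∈ Subgroup.normalizer (P : Set G)) :
    ∃ m : ℤ, ∀ y ∈ P, x * y * x⁻¹ = y ^ m := by
  obtain ⟨g, hg⟩ := hcyc.exists_generator
  have hxg : x * (g : G) * x⁻¹ ∈ P := (Subgroup.mem_normalizer_iff.mp hx g).mp g.2
  obtain ⟨m, hm⟩ := Subgroup.mem_zpowers_iff.mp (hg ⟨_, hxg⟩)
  have hm' : (g : G) ^ m = x * g * x⁻¹ := by simpa using congrArg Subtype.val hm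
  refine ⟨m, ?_⟩
  intro y hy
  obtain ⟨j, hj⟩ := Subgroup.mem_zpowers_iff.mp (hg ⟨y, hy⟩)
  have hj' : (g : G) ^ j = y := by simpa using congrArg Subtype.val hj
  rw [← hj', ← conj_zpow, ← hm', ← zpow_mul, ← zpow_mul, mul_comm]

/-- the normaliser of a cyclic subgroup normalises each of its subgroups -/
theorem norm_le_norm_sub {G : Type*} [Group G] (P : Subgroup G) (hcyc : IsCyclic P)
    (U : Subgroup G) (hU : U ≤ P) :
    Subgroup.normalizer (P : Set G) ≤ Subgroup.normalizer (U : Set G) := by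
  have key : ∀ n ∈ Subgroup.normalizer (P : Set G), ∀ y ∈ U, n * y * n⁻¹ ∈ U := by
    intro n hn y hy
    obtain ⟨m, hm⟩ := cyc_conj_pow P hcyc hn
    rw [hm y (hU hy)]
    exact zpow_mem hy m
  intro n hn
  rw [Subgroup.mem_normalizer_iff]
  intro y
  refine ⟨key n hn y, fun h => ?_⟩
  have := key n⁻¹ (inv_mem hn) _ h
  simpa [mul_assoc] using this

/-- (1a) `N(U) = N(P)` for `1 ≠ U ≤ P`. -/
theorem norm_sub_eq {G : Type*} [Group G] [Finite G] {p : ℕ} [Fact p.Prime] [IsSimpleGroup G]
    (hna : ∃ a b : G, a * b ≠ b * a) (P : Sylow p G) (hcyc : IsCyclic P)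
    (hP1 : (P : Subgroup G) ≠ ⊥)
    (hmin : ∀ H : Subgroup G, H ≠ ⊤ → ∀ P1 : Sylow p H,
      Cfsg.HasNormalPComplement p H ∨ (P1 : Subgroup H).Normal)
    (U : Subgroup G) (hU : U ≤ P) (hU1 : U ≠ ⊥) :
    Subgroup.normalizer (U : Set G) = Subgroup.normalizer ((P : Subgroup G) : Set G) := by
  apply eq_norm_of_ge hna P hcyc hP1 hmin _ _ (norm_le_norm_sub _ hcyc U hU)
  intro htop
  have hUn : U.Normal := Subgroup.normalizer_eq_top_iff.mp htop
  rcases hUn.eq_bot_or_eq_top with hb | ht
  · exact hU1 hb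
  · obtain ⟨a, b, hab⟩ := hna
    exact hab (cyc_comm hcyc a (hU (ht ▸ Subgroup.mem_top a)) b (hU (ht ▸ Subgroup.mem_top b)))

/-- (1b) `P` is a TI subgroup, elementwise form. -/
theorem sylow_TI {G : Type*} [Group G] [Finite G] {p : ℕ} [Fact p.Prime] [IsSimpleGroup G]
    (hna : ∃ a b : G, a * b ≠ b * a) (P : Sylow p G) (hcyc : IsCyclic P)
    (hP1 : (P : Subgroup G) ≠ ⊥)
    (hmin : ∀ H : Subgroup G, H ≠ ⊤ → ∀ P1 : Sylow p H,
      Cfsg.HasNormalPComplement p H ∨ (P1 : Subgroup H).Normal) :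
    ∀ g u : G, u ∈ (P : Subgroup G) → u ≠ 1 → g * u * g⁻¹ ∈ (P : Subgroup G) →
      g ∈ Subgroup.normalizer ((P : Subgroup G) : Set G) := by
  intro g u hu hu1 hgu
  have hPcomm : IsMulCommutative P := IsCyclic.isMulCommutative
  obtain ⟨n, hn, hn2⟩ := P.conj_eq_normalizer_conj_of_mem u g⁻¹ hu (by
    rw [inv_inv]; exact hgu)
  rw [inv_inv] at hn2
  -- `c = n * g` commutes with `u`
  have hc : (n * g) * u = u * (n * g) := by
    have : n * (g * u * g⁻¹) * n⁻¹ = u := by rw [hn2]; group
    calc (n * g) * u = n * (g * u * g⁻¹) * n⁻¹ * (n * g) := by group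
      _ = u * (n * g) := by rw [this]
  have hcN : n * g ∈ Subgroup.normalizer ((Subgroup.zpowers u : Subgroup G) : Set G) := by
    apply Subgroup.centralizer_le_normalizer
    rw [Subgroup.mem_centralizer_iff]
    intro y hy
    obtain ⟨k, rfl⟩ := Subgroup.mem_zpowers_iff.mp hy
    exact ((Commute.zpow_right (show Commute (n * g) u from hc) k).eq).symm
  have hUP : Subgroup.zpowers u ≤ (P : Subgroup G) := by
    rw [Subgroup.zpowers_le]; exact hu
  have hU1 : Subgroup.zpowers u ≠ ⊥ := by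
    rw [Ne, Subgroup.zpowers_eq_bot]; exact hu1
  rw [norm_sub_eq hna P hcyc hP1 hmin _ hUP hU1] at hcN
  have : g = n⁻¹ * (n * g) := by group
  rw [this]
  exact mul_mem (inv_mem hn) hcN

/-- (4) the centraliser of a nonidentity element central in `N(P)` is `N(P)`. -/
theorem cent_eq_norm {G : Type*} [Group G] [Finite G] {p : ℕ} [Fact p.Prime] [IsSimpleGroup G]
    (hna : ∃ a b : G, a * b ≠ b * a) (P : Sylow p G) (hcyc : IsCyclic P)
    (hP1 : (P : Subgroup G) ≠ ⊥)
    (hmin : ∀ H : Subgroup G, H ≠ ⊤ → ∀ P1 : Sylow p H,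
      Cfsg.HasNormalPComplement p H ∨ (P1 : Subgroup H).Normal)
    (x : G) (hx1 : x ≠ 1)
    (hx : ∀ n ∈ Subgroup.normalizer ((P : Subgroup G) : Set G), n * x = x * n) :
    Subgroup.centralizer ({x} : Set G) = Subgroup.normalizer ((P : Subgroup G) : Set G) := by
  apply eq_norm_of_ge hna P hcyc hP1 hmin
  · intro htop
    have hxc : x ∈ Subgroup.center G := by
      have := Subgroup.centralizer_eq_top_iff_subset.mp htop
      exact this (Set.mem_singleton x)
    rcases (inferInstance : (Subgroup.center G).Normal).eq_bot_or_eq_top with hb | ht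
    · rw [hb, Subgroup.mem_bot] at hxc; exact hx1 hxc
    · obtain ⟨a, b, hab⟩ := hna
      have ha : a ∈ Subgroup.center G := ht ▸ Subgroup.mem_top a
      exact hab ((Subgroup.mem_center_iff.mp ha b).symm)
  · intro n hn
    rw [Subgroup.mem_centralizer_iff]
    intro y hy
    rw [Set.mem_singleton_iff] at hy
    rw [hy]; exact (hx n hn).symm

end Cfsg.Agent.S4016P
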