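import Mathlib
import Cfsg.Prelude.Def_Transfer
import Cfsg.Agent.Helper23.S4016C
import Cfsg.Agent.Helper12.S4016D

/-!
Piece (7) of the team proof of S4016 (simple minimal counterexample): existence of the
`p`-subgroup `P1` normalising the abelian complement `L` of `P` in `N(P)` whose nonidentity
elements move `L ⊓ C(P)` off itself.
-/

set_option autoImplicit false

namespace Cfsg.Agent.S4016P

/-- decomposition of `P ⊔ L` when `L` normalises `P` -/
theorem sup_decomp {G : Type*} [Group G] (P L : Subgroup G)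
    (hLN : L ≤ Subgroup.normalizer (P : Set G)) :
    ∀ g ∈ P ⊔ L, ∃ a ∈ P, ∃ l ∈ L, g = a * l := by
  let S : Subgroup G :=
    { carrier := {g | ∃ a ∈ P, ∃ l ∈ L, g = a * l}
      mul_mem' := by
        rintro g g' ⟨a, ha, l, hl, rfl⟩ ⟨a', ha', l', hl', rfl⟩
        refine ⟨a * (l * a' * l⁻¹), mul_mem ha ((Subgroup.mem_normalizer_iff.mp (hLN hl) a').mp ha'),
          l * l', mul_mem hl hl', by group⟩
      one_mem' := ⟨1, one_mem _, 1, one_mem _, by simp⟩
      inv_mem' := by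
        rintro g ⟨a, ha, l, hl, rfl⟩
        refine ⟨l⁻¹ * a⁻¹ * l⁻¹⁻¹,
          (Subgroup.mem_normalizer_iff.mp (hLN (inv_mem hl)) a⁻¹).mp (inv_mem ha),
          l⁻¹, inv_mem hl, by group⟩ }
  have hS : P ⊔ L ≤ S :=
    sup_le (fun a ha => ⟨a, ha, 1, one_mem _, by simp⟩) (fun l hl => ⟨1, one_mem _, l, hl, by simp⟩)
  intro g hg
  exact hS hg

/-- order of `P ⊔ L` when `L` normalises `P` and `P ⊓ L = ⊥` -/
theorem card_sup_eq {G : Type*} [Group G] [Finite G] (P L : Subgroup G)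
    (hLN : L ≤ Subgroup.normalizer (P : Set G)) (hPL : P ⊓ L = ⊥) :
    Nat.card (P ⊔ L : Subgroup G) = Nat.card P * Nat.card L := by
  rw [← Nat.card_prod]
  symm
  apply Nat.card_congr
  refine Equiv.ofBijective (fun x : P × L =>
    (⟨(x.1 : G) * (x.2 : G), mul_mem (le_sup_left (a := P) (b := L) x.1.2)
      (le_sup_right (a := P) (b := L) x.2.2)⟩ : (P ⊔ L : Subgroup G))) ⟨?_, ?_⟩
  · intro x y h
    exact Subgroup.mul_injective_of_disjoint (disjoint_iff.mpr hPL) (congrArg Subtype.val h)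
  · rintro ⟨g, hg⟩
    obtain ⟨a, ha, l, hl, rfl⟩ := sup_decomp P L hLN g hg
    exact ⟨(⟨a, ha⟩, ⟨l, hl⟩), rfl⟩

/-- a `p`-element of the normaliser of a Sylow `p`-subgroup lies in it -/
theorem pelt_mem_sylow {G : Type*} [Group G] [Finite G] {p : ℕ} [Fact p.Prime]
    (P : Sylow p G) (g : G) (hg : g ∈ Subgroup.normalizer ((P : Subgroup G) : Set G)) (k : ℕ)
    (hgk : g ^ (p ^ k) = 1) : g ∈ (P : Subgroup G) := by
  have hp : p.Prime := Fact.out
  have hH : IsPGroup p (Subgroup.zpowers g) := by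
    obtain ⟨j, _, hj⟩ := (Nat.dvd_prime_pow hp).mp (orderOf_dvd_of_pow_eq_one hgk)
    apply IsPGroup.of_card (n := j)
    rw [Nat.card_zpowers, hj]
  have hHK : Subgroup.zpowers g ≤ Subgroup.normalizer ((P : Subgroup G) : Set G) := by
    rw [Subgroup.zpowers_le]; exact hg
  have h1 : IsPGroup p (Subgroup.zpowers g ⊔ (P : Subgroup G) : Subgroup G) :=
    IsPGroup.to_sup_of_normal_right' hH P.2 hHK
  have h2 := P.is_maximal' h1 le_sup_right
  have h3 : Subgroup.zpowers g ≤ (P : Subgroup G) := by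
    rw [← h2]; exact le_sup_left
  exact h3 (Subgroup.mem_zpowers g)

/-- (7), with the structure of `N(Q)` as a hypothesis. -/
theorem exists_p1_of_struct {G : Type*} [Group G] [Finite G] {p : ℕ} [Fact p.Prime]
    [IsSimpleGroup G]
    (hna : ∃ a b : G, a * b ≠ b * a) (P : Sylow p G) (hcyc : IsCyclic P)
    (hP1 : (P : Subgroup G) ≠ ⊥)
    (hmin : ∀ H : Subgroup G, H ≠ ⊤ → ∀ P1 : Sylow p H,
      Cfsg.HasNormalPComplement p H ∨ (P1 : Subgroup H).Normal)
    (hab : ∀ H : Subgroup G, ¬ p ∣ Nat.card H → IsMulCommutative H)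
    (hS : ∀ (q : ℕ) [Fact q.Prime] (Q : Sylow q G), q ≠ p → (Q : Subgroup G) ≠ ⊥ →
      ∃ K P1 : Subgroup G, (∀ a ∈ K, ∀ b ∈ K, a * b = b * a) ∧ (Q : Subgroup G) ≤ K ∧
        (∀ y ∈ Subgroup.normalizer ((Q : Subgroup G) : Set G), (orderOf y).Coprime p → y ∈ K) ∧
        ¬ p ∣ Nat.card K ∧ (∀ u ∈ P1, ∀ k ∈ K, u * k * u⁻¹ ∈ K) ∧ IsPGroup p P1 ∧ P1 ≠ ⊥ ∧
        (∀ y ∈ (Q : Subgroup G), (∀ u ∈ P1, u * y = y * u) → y = 1))
    (L : Subgroup G) (hPL : (P : Subgroup G) ⊓ L = ⊥)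
    (hsup : (P : Subgroup G) ⊔ L = Subgroup.normalizer ((P : Subgroup G) : Set G))
    (hL0 : L ⊓ Subgroup.centralizer ((P : Subgroup G) : Set G) ≠ ⊥) :
    ∃ P1 : Subgroup G, p ≤ Nat.card P1 ∧ (∀ u ∈ P1, ∀ x ∈ L, u * x * u⁻¹ ∈ L) ∧
      (∀ u ∈ P1, u ≠ 1 → ∀ x ∈ L ⊓ Subgroup.centralizer ((P : Subgroup G) : Set G),
        u * x * u⁻¹ ∈ L ⊓ Subgroup.centralizer ((P : Subgroup G) : Set G) → x = 1) := by
  classical
  have hp : p.Prime := Fact.out
  have hLN : L ≤ Subgroup.normalizer ((P : Subgroup G) : Set G) := hsup ▸ le_sup_right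
  have hNcard : Nat.card (Subgroup.normalizer ((P : Subgroup G) : Set G)) =
      Nat.card (P : Subgroup G) * Nat.card L := by
    rw [← hsup]; exact card_sup_eq _ _ hLN hPL
  -- `p ∤ |L|`
  have hLp : ¬ p ∣ Nat.card L := by
    intro hdvd
    have h1 : Nat.card (P : Subgroup G) = p ^ (Nat.card G).factorization p :=
      P.card_eq_multiplicity
    have h2 : p ^ ((Nat.card G).factorization p + 1) ∣ Nat.card G := by
      have h3 : Nat.card (Subgroup.normalizer ((P : Subgroup G) : Set G)) ∣ Nat.card G :=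
        Subgroup.card_subgroup_dvd_card _
      refine dvd_trans ?_ h3
      rw [hNcard, h1, pow_succ]
      exact Nat.mul_dvd_mul_left _ hdvd
    exact Nat.pow_succ_factorization_not_dvd (Nat.card_pos.ne') hp h2
  have hLab : ∀ a ∈ L, ∀ b ∈ L, a * b = b * a := by
    have hLc : IsMulCommutative L := hab L hLp
    intro a ha b hb
    exact congrArg Subtype.val (mul_comm' (⟨a, ha⟩ : L) ⟨b, hb⟩)
  -- elements of `L0` are central in `N`
  have hcentral : ∀ z ∈ L ⊓ Subgroup.centralizer ((P : Subgroup G) : Set G),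
      ∀ n ∈ Subgroup.normalizer ((P : Subgroup G) : Set G), n * z = z * n := by
    intro z hz n hn
    rw [← hsup] at hn
    obtain ⟨a, ha, l, hl, rfl⟩ := sup_decomp _ _ hLN n hn
    have h1 : a * z = z * a := (Subgroup.mem_centralizer_iff.mp hz.2) a ha
    have h2 : l * z = z * l := hLab l hl z hz.1
    rw [mul_assoc, h2, ← mul_assoc, h1, mul_assoc]
  have hcent : ∀ z ∈ L ⊓ Subgroup.centralizer ((P : Subgroup G) : Set G), z ≠ 1 →
      Subgroup.centralizer ({z} : Set G) = Subgroup.normalizer ((P : Subgroup G) : Set G) :=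
    fun z hz hz1 => cent_eq_norm hna P hcyc hP1 hmin z hz1 (hcentral z hz)
  -- an element `x` of prime order `q` in `L0`
  obtain ⟨x0, hx0, hx01⟩ : ∃ x0 ∈ L ⊓ Subgroup.centralizer ((P : Subgroup G) : Set G),
      x0 ≠ 1 := by
    by_contra hcon
    push Not at hcon
    exact hL0 ((Subgroup.eq_bot_iff_forall _).mpr hcon)
  obtain ⟨q, hq, hqdvd⟩ := Nat.exists_prime_and_dvd
    (show orderOf x0 ≠ 1 by rwa [Ne, orderOf_eq_one_iff])
  obtain ⟨x, hxdef⟩ : ∃ x : G, x = x0 ^ (orderOf x0 / q) := ⟨_, rfl⟩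
  have hxord : orderOf x = q := by
    rw [hxdef]; exact orderOf_pow_orderOf_div (orderOf_pos x0).ne' hqdvd
  have hxL0 : x ∈ L ⊓ Subgroup.centralizer ((P : Subgroup G) : Set G) := by
    rw [hxdef]; exact pow_mem hx0 _
  have hx1 : x ≠ 1 := by
    intro h; rw [h, orderOf_one] at hxord; exact hq.one_lt.ne hxord
  have hqF : Fact q.Prime := ⟨hq⟩
  have hxordL : orderOf (⟨x, hxL0.1⟩ : L) = q := by
    rw [← Subgroup.orderOf_coe]; exact hxord
  have hqp : q ≠ p := by
    rintro rfl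
    apply hLp
    have := orderOf_dvd_natCard (⟨x, hxL0.1⟩ : L)
    rwa [hxordL] at this
  -- a Sylow `q`-subgroup of `G` inside `L` containing `x`
  have hzq : IsPGroup q (Subgroup.zpowers (⟨x, hxL0.1⟩ : L)) := by
    apply IsPGroup.of_card (n := 1)
    rw [Nat.card_zpowers, hxordL, pow_one]
  obtain ⟨R0, hR0⟩ := hzq.exists_le_sylow
  obtain ⟨R, hRdef⟩ : ∃ R : Subgroup G, R = (R0 : Subgroup L).map L.subtype := ⟨_, rfl⟩
  have hRq : IsPGroup q R := by rw [hRdef]; exact R0.2.map L.subtype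
  obtain ⟨Q, hRQ⟩ := hRq.exists_le_sylow
  have hxR : x ∈ R := by
    rw [hRdef]; exact ⟨⟨x, hxL0.1⟩, hR0 (Subgroup.mem_zpowers _), rfl⟩
  have hxQ : x ∈ (Q : Subgroup G) := hRQ hxR
  have hRL : R ≤ L := by rw [hRdef]; exact Subgroup.map_subtype_le _
  have hQp : ¬ p ∣ Nat.card (Q : Subgroup G) := by
    intro hdvd
    obtain ⟨n, hn⟩ := IsPGroup.iff_card.mp Q.2
    rw [hn] at hdvd
    exact hqp ((Nat.prime_dvd_prime_iff_eq hp hq).mp (hp.dvd_of_dvd_pow hdvd)).symm
  have hQc : IsMulCommutative (Q : Subgroup G) := hab Q hQp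
  have hQN : (Q : Subgroup G) ≤ Subgroup.normalizer ((P : Subgroup G) : Set G) := by
    rw [← hcent x hxL0 hx1]
    intro y hy
    rw [Subgroup.mem_centralizer_iff]
    intro z hz
    rw [Set.mem_singleton_iff] at hz
    rw [hz]
    exact congrArg Subtype.val (mul_comm' (⟨x, hxQ⟩ : (Q : Subgroup G)) ⟨y, hy⟩)
  have hQL : Nat.card (Q : Subgroup G) ∣ Nat.card L := by
    have h1 : Nat.card (Q : Subgroup G) ∣ Nat.card (P : Subgroup G) * Nat.card L := by
      rw [← hNcard]; exact Subgroup.card_dvd_of_le hQN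
    have h2 : (Nat.card (Q : Subgroup G)).Coprime (Nat.card (P : Subgroup G)) := by
      obtain ⟨n, hn⟩ := IsPGroup.iff_card.mp Q.2
      obtain ⟨m, hm⟩ := IsPGroup.iff_card.mp P.2
      rw [hn, hm]
      exact Nat.Coprime.pow _ _ ((Nat.coprime_primes hq hp).mpr hqp)
    exact h2.dvd_of_dvd_mul_left h1
  have hRcard : Nat.card (Q : Subgroup G) ∣ Nat.card R := by
    obtain ⟨n, hn⟩ := IsPGroup.iff_card.mp Q.2
    have h1 : q ^ n ∣ Nat.card (R0 : Subgroup L) :=
      R0.pow_dvd_card_of_pow_dvd_card (hn ▸ hQL)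
    rw [hn, hRdef, Subgroup.card_map_of_injective (Subgroup.subtype_injective _)]
    exact h1
  have hRQeq : R = (Q : Subgroup G) :=
    Subgroup.eq_of_le_of_card_ge hRQ (Nat.le_of_dvd Nat.card_pos hRcard)
  have hQleL : (Q : Subgroup G) ≤ L := hRQeq ▸ hRL
  have hQ1 : (Q : Subgroup G) ≠ ⊥ := by
    intro h; rw [h, Subgroup.mem_bot] at hxQ; exact hx1 hxQ
  -- the structure of `N(Q)`
  obtain ⟨K, P1, hKab, hQK, hKall, hKp, hP1K, hP1p, hP1ne, hfix⟩ := hS q Q hqp hQ1
  have hLM : L ≤ Subgroup.normalizer ((Q : Subgroup G) : Set G) := by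
    intro l hl
    apply Subgroup.centralizer_le_normalizer
    rw [Subgroup.mem_centralizer_iff]
    intro y hy
    exact hLab y (hQleL hy) l hl
  have hLK : L ≤ K := by
    intro l hl
    apply hKall l (hLM hl)
    have h1 : orderOf l ∣ Nat.card L := by
      have := orderOf_dvd_natCard (⟨l, hl⟩ : L)
      rwa [← Subgroup.orderOf_coe] at this
    exact Nat.Coprime.coprime_dvd_left h1 ((Nat.Prime.coprime_iff_not_dvd hp).mpr hLp).symm
  have hKN : K ≤ Subgroup.normalizer ((P : Subgroup G) : Set G) := by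
    rw [← hcent x hxL0 hx1]
    intro k hk
    rw [Subgroup.mem_centralizer_iff]
    intro z hz
    rw [Set.mem_singleton_iff] at hz
    rw [hz]
    exact hKab x (hQK hxQ) k hk
  have hKL : L = K := by
    apply Subgroup.eq_of_le_of_card_ge hLK
    have h1 : Nat.card K ∣ Nat.card (P : Subgroup G) * Nat.card L := by
      rw [← hNcard]; exact Subgroup.card_dvd_of_le hKN
    have h2 : (Nat.card K).Coprime (Nat.card (P : Subgroup G)) := by
      obtain ⟨m, hm⟩ := IsPGroup.iff_card.mp P.2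
      rw [hm]
      exact Nat.Coprime.pow_right _ ((Nat.Prime.coprime_iff_not_dvd hp).mpr hKp).symm
    exact Nat.le_of_dvd Nat.card_pos (h2.dvd_of_dvd_mul_left h1)
  refine ⟨P1, ?_, ?_, ?_⟩
  · obtain ⟨n, hn⟩ := IsPGroup.iff_card.mp hP1p
    rw [hn]
    rcases Nat.eq_zero_or_pos n with h0 | hpos
    · exfalso; apply hP1ne; rw [h0, pow_zero] at hn; exact Subgroup.card_eq_one.mp hn
    · calc p = p ^ 1 := (pow_one p).symm
        _ ≤ p ^ n := Nat.pow_le_pow_right hp.pos hpos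
  · intro u hu l hl
    rw [hKL]; exact hP1K u hu l (hKL ▸ hl)
  · intro u hu hu1 z hz hz'
    by_contra hz1
    have hy1 : u * z * u⁻¹ ≠ 1 := by
      intro h
      apply hz1
      have : z = u⁻¹ * (u * z * u⁻¹) * u := by group
      rw [this, h]; group
    have hCz := hcent z hz hz1
    have hCy := hcent _ hz' hy1
    have huNN : u ∈ Subgroup.normalizer
        ((Subgroup.normalizer ((P : Subgroup G) : Set G) : Subgroup G) : Set G) := by
      rw [Subgroup.mem_normalizer_iff]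
      intro h
      constructor
      · intro hh
        rw [← hCz] at hh
        rw [← hCy, Subgroup.mem_centralizer_iff]
        intro w hw
        rw [Set.mem_singleton_iff] at hw
        rw [hw]
        have h1 : z * h = h * z := (Subgroup.mem_centralizer_iff.mp hh) z (Set.mem_singleton z)
        calc u * z * u⁻¹ * (u * h * u⁻¹) = u * (z * h) * u⁻¹ := by group
          _ = u * (h * z) * u⁻¹ := by rw [h1]
          _ = u * h * u⁻¹ * (u * z * u⁻¹) := by group
      · intro hh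
        rw [← hCy] at hh
        rw [← hCz, Subgroup.mem_centralizer_iff]
        intro w hw
        rw [Set.mem_singleton_iff] at hw
        rw [hw]
        have h1 : u * z * u⁻¹ * (u * h * u⁻¹) = u * h * u⁻¹ * (u * z * u⁻¹) :=
          (Subgroup.mem_centralizer_iff.mp hh) _ (Set.mem_singleton _)
        have h2 : u * (z * h) * u⁻¹ = u * (h * z) * u⁻¹ := by
          calc u * (z * h) * u⁻¹ = u * z * u⁻¹ * (u * h * u⁻¹) := by group
            _ = u * h * u⁻¹ * (u * z * u⁻¹) := h1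
            _ = u * (h * z) * u⁻¹ := by group
        exact mul_left_cancel (mul_right_cancel h2)
    have huN : u ∈ Subgroup.normalizer ((P : Subgroup G) : Set G) := by
      have hNN : Subgroup.normalizer
          ((Subgroup.normalizer ((P : Subgroup G) : Set G) : Subgroup G) : Set G) =
          Subgroup.normalizer ((P : Subgroup G) : Set G) := Sylow.normalizer_normalizer P
      rw [hNN] at huNN
      exact huNN
    obtain ⟨k, hk⟩ := hP1p ⟨u, hu⟩
    have huk : u ^ (p ^ k) = 1 := by simpa using congrArg Subtype.val hk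
    have huP : u ∈ (P : Subgroup G) := pelt_mem_sylow P u huN k huk
    -- `P1 ≤ P`
    obtain ⟨P', hP'⟩ := hP1p.exists_le_sylow
    obtain ⟨g, hg⟩ := MulAction.exists_smul_eq G P P'
    have hug : u ∈ ((g • P : Sylow p G) : Subgroup G) := by rw [hg]; exact hP' hu
    have hgu : g⁻¹ * u * g ∈ (P : Subgroup G) := by
      rw [Sylow.coe_subgroup_smul, Subgroup.mem_pointwise_smul_iff_inv_smul_mem] at hug
      simpa [MulAut.smul_def] using hug
    have hgN : g⁻¹ ∈ Subgroup.normalizer ((P : Subgroup G) : Set G) :=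
      sylow_TI hna P hcyc hP1 hmin g⁻¹ u huP hu1 (by rw [inv_inv]; exact hgu)
    have hgN' : g ∈ Subgroup.normalizer ((P : Subgroup G) : Set G) := by
      simpa using inv_mem hgN
    have hPP' : P' = P := by rw [← hg]; exact Sylow.smul_eq_iff_mem_normalizer.mpr hgN'
    apply hx1
    apply hfix x hxQ
    intro v hv
    have hvP : v ∈ (P : Subgroup G) := hPP' ▸ hP' hv
    exact (Subgroup.mem_centralizer_iff.mp hxL0.2) v hvP

/-- (7): existence of `P1`, the input of the counting. -/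
theorem exists_p1 {G : Type*} [Group G] [Finite G] {p : ℕ} [Fact p.Prime]
    [IsSimpleGroup G]
    (hna : ∃ a b : G, a * b ≠ b * a) (P : Sylow p G) (hcyc : IsCyclic P)
    (hP1 : (P : Subgroup G) ≠ ⊥)
    (hmin : ∀ H : Subgroup G, H ≠ ⊤ → ∀ P1 : Sylow p H,
      Cfsg.HasNormalPComplement p H ∨ (P1 : Subgroup H).Normal)
    (hab : ∀ H : Subgroup G, ¬ p ∣ Nat.card H → IsMulCommutative H)
    (hT : ∀ (q : ℕ) [Fact q.Prime] (Q : Sylow q G), IsMulCommutative Q → ∀ y ∈ Q,
      (∀ n ∈ Subgroup.normalizer ((Q : Subgroup G) : Set G), n * y = y * n) → y = 1)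
    (L : Subgroup G) (hPL : (P : Subgroup G) ⊓ L = ⊥)
    (hsup : (P : Subgroup G) ⊔ L = Subgroup.normalizer ((P : Subgroup G) : Set G))
    (hL0 : L ⊓ Subgroup.centralizer ((P : Subgroup G) : Set G) ≠ ⊥) :
    ∃ P1 : Subgroup G, p ≤ Nat.card P1 ∧ (∀ u ∈ P1, ∀ x ∈ L, u * x * u⁻¹ ∈ L) ∧
      (∀ u ∈ P1, u ≠ 1 → ∀ x ∈ L ⊓ Subgroup.centralizer ((P : Subgroup G) : Set G),
        u * x * u⁻¹ ∈ L ⊓ Subgroup.centralizer ((P : Subgroup G) : Set G) → x = 1) :=
  exists_p1_of_struct hna P hcyc hP1 hmin hab (normQ_struct hna hab hmin hT) L hPL hsup hL0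

end Cfsg.Agent.S4016P
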