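import Mathlib
import Cfsg.Prelude.Def_OddOrderLocal
import Cfsg.Prelude.Def_HallClasses
import Cfsg.Agent.S0071
import Cfsg.Agent.S0072

/-!
# Splitting a `σ ∪ τ`-group as a central product of a `τ`-group and a `σ`-group
-/

set_option autoImplicit false

namespace Cfsg.Agent.Helper23.HallProdC

open Cfsg

universe u

/-- Lemma S: a finite `σ ∪ τ`-group in which `p'`-elements normalizing `p`-subgroups centralize
them (`p ∈ σ`) and `σ`-elements normalizing `τ`-subgroups centralize them is the product of a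
`τ`-subgroup and a `σ`-subgroup centralizing each other. -/
theorem split {X : Type u} [Group X] [Finite X] (σ τ : Set ℕ) (hd : Disjoint σ τ)
    (hX : ∀ p : ℕ, p.Prime → p ∣ Nat.card X → p ∈ σ ∪ τ)
    (hB : ∀ (p : ℕ) [Fact p.Prime], p ∈ σ → ∀ Q : Subgroup X, IsPGroup p Q →
        ∀ y ∈ Subgroup.normalizer (Q : Set X), Nat.Coprime (orderOf y) p →
          y ∈ Subgroup.centralizer (Q : Set X))
    (hC : ∀ E : Subgroup X, Cfsg.IsPiSubgroup τ E → ∀ y ∈ Subgroup.normalizer (E : Set X),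
        (∀ q : ℕ, q.Prime → q ∣ orderOf y → q ∈ σ) → y ∈ Subgroup.centralizer (E : Set X)) :
    ∃ E S : Subgroup X, Cfsg.IsPiSubgroup τ E ∧ Cfsg.IsPiSubgroup σ S ∧
      S ≤ Subgroup.centralizer (E : Set X) ∧ E ⊔ S = ⊤ := by
  classical
  let I : Type u := {M : Subgroup X // M.Normal ∧ ∃ p : ℕ, p.Prime ∧ p ∈ σ ∧ ∃ k : ℕ, M.index = p ^ k}
  let E : Subgroup X := ⨅ M : I, M.1
  have hEn : E.Normal := Subgroup.normal_iInf_normal (fun M => M.2.1)
  have hEle : ∀ M : Subgroup X, M.Normal → (∃ p : ℕ, p.Prime ∧ p ∈ σ ∧ ∃ k : ℕ, M.index = p ^ k) →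
      E ≤ M := fun M h1 h2 => iInf_le (fun M : I => M.1) ⟨M, h1, h2⟩
  -- (a)
  have ha : ∀ p : ℕ, p.Prime → p ∈ σ → ¬ p ∣ Nat.card E := by
    intro p hp hpσ
    haveI : Fact p.Prime := ⟨hp⟩
    obtain ⟨P⟩ : Nonempty (Sylow p X) := inferInstance
    obtain ⟨N, hN, hNP⟩ := (Cfsg.Agent.S0071.result P).mpr
      (fun Q hQ g hg hcop => hB p hpσ Q (P.2.to_le hQ) g hg hcop)
    obtain ⟨k, hk⟩ := IsPGroup.iff_card.mp P.2
    have h1 : N.index = p ^ k := by rw [hNP.symm.index_eq_card, hk]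
    have h2 : E ≤ N := hEle N hN ⟨p, hp, hpσ, k, h1⟩
    have h3 : Nat.card N = (P : Subgroup X).index := hNP.index_eq_card.symm
    intro h
    have h4 : p ∣ Nat.card N := h.trans (Subgroup.card_dvd_of_le h2)
    rw [h3] at h4
    exact P.not_dvd_index h4
  -- (b)
  have hb : ∀ r : ℕ, r.Prime → r ∈ τ → ¬ r ∣ E.index := by
    intro r hr hrτ
    haveI : Fact r.Prime := ⟨hr⟩
    obtain ⟨R⟩ : Nonempty (Sylow r X) := inferInstance
    have h1 : (R : Subgroup X) ≤ E := by
      refine le_iInf ?_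
      rintro ⟨M, hMn, p, hp, hpσ, k, hk⟩
      intro z hz
      haveI : Fact p.Prime := ⟨hp⟩
      haveI := hMn
      obtain ⟨j, hj⟩ := R.2 ⟨z, hz⟩
      have hj' : z ^ (r ^ j) = 1 := by
        have := congrArg Subtype.val hj
        simpa using this
      have hne : r ≠ p := by
        rintro rfl
        exact Set.disjoint_left.mp hd hpσ hrτ
      have hcop : (r ^ j).Coprime p :=
        Nat.Coprime.pow_left j ((Nat.coprime_primes hr hp).mpr hne)
      exact Cfsg.Agent.S0072.mem_of_coprime_pow p M k hk z (r ^ j) hcop hj'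
    intro h
    exact R.not_dvd_index (h.trans (Subgroup.index_dvd_of_le h1))
  -- (c)
  have hc : Nat.Coprime (Nat.card E) E.index := by
    apply Nat.coprime_of_dvd
    intro q hq hqE
    have hqX : q ∣ Nat.card X := hqE.trans (Subgroup.card_subgroup_dvd_card E)
    rcases hX q hq hqX with h | h
    · exact absurd hqE (ha q hq h)
    · exact hb q hq h
  -- (d)
  obtain ⟨S, hS⟩ := Subgroup.exists_right_complement'_of_coprime hc
  have hEτ : Cfsg.IsPiSubgroup τ E := by
    intro q hq hqE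
    have hqX : q ∣ Nat.card X := hqE.trans (Subgroup.card_subgroup_dvd_card E)
    rcases hX q hq hqX with h | h
    · exact absurd hqE (ha q hq h)
    · exact h
  have hSσ : Cfsg.IsPiSubgroup σ S := by
    intro q hq hqS
    rw [← hS.symm.index_eq_card] at hqS
    have hqX : q ∣ Nat.card X := hqS.trans (Subgroup.index_dvd_card E)
    rcases hX q hq hqX with h | h
    · exact h
    · exact absurd hqS (hb q hq h)
  refine ⟨E, S, hEτ, hSσ, ?_, hS.sup_eq_top⟩
  intro y hy
  apply hC E hEτ y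
  · rw [Subgroup.normalizer_eq_top]
    exact Subgroup.mem_top y
  · intro q hq hqy
    apply hSσ q hq
    have h1 : orderOf (⟨y, hy⟩ : S) ∣ Nat.card S := orderOf_dvd_natCard _
    rw [Subgroup.orderOf_mk] at h1
    exact hqy.trans h1

end Cfsg.Agent.Helper23.HallProdC
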