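import Mathlib
import Cfsg.Prelude.Def_Transfer
import Cfsg.Agent.Helper1.Hall
import Cfsg.Agent.Helper2.S4016G
import Cfsg.Agent.Helper3.S4016G
import Cfsg.Agent.Helper5.S4016K
import Cfsg.Agent.Helper12.S4016B
import Cfsg.Agent.Helper12.S4016C
import Cfsg.Agent.Helper18.S4016G
import Cfsg.Agent.Helper23.S4016C
import Cfsg.Agent.Helper23.S4016F

/-!
Assembly of the simple case of S4016 from the team's landed pieces.
-/

set_option autoImplicit false

namespace Cfsg.Agent.S4016P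

/-- The simple case of S4016: no nonabelian simple minimal counterexample. -/
theorem h23_simple_case.{u} {G : Type u} [Group G] [Finite G] {p : ℕ} [Fact p.Prime]
    [IsSimpleGroup G] (hna : ∃ a b : G, a * b ≠ b * a) (hcyc : ∀ P : Sylow p G, IsCyclic P)
    (hab : ∀ H : Subgroup G, ¬ p ∣ Nat.card H → IsMulCommutative H)
    (hmin : ∀ H : Subgroup G, H ≠ ⊤ → ∀ P1 : Sylow p H,
      Cfsg.HasNormalPComplement p H ∨ (P1 : Subgroup H).Normal)
    (hT : ∀ (q : ℕ) [Fact q.Prime] (Q : Sylow q G), IsMulCommutative Q → ∀ y ∈ Q,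
      (∀ n ∈ Subgroup.normalizer ((Q : Subgroup G) : Set G), n * y = y * n) → y = 1) :
    False := by
  have hp : p.Prime := Fact.out
  obtain ⟨P⟩ : Nonempty (Sylow p G) := inferInstance
  have hcycP := hcyc P
  have hP1 : (P : Subgroup G) ≠ ⊥ := by
    intro hbot
    have hpG : ¬ p ∣ Nat.card G := fun hdvd => P.ne_bot_of_dvd_card hdvd hbot
    have h1 : ¬ p ∣ Nat.card (⊤ : Subgroup G) := by rwa [Subgroup.card_top]
    have h2 : IsMulCommutative (⊤ : Subgroup G) := hab ⊤ h1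
    obtain ⟨a, b, hab'⟩ := hna
    exact hab' (congrArg Subtype.val
      (mul_comm' (⟨a, Subgroup.mem_top a⟩ : (⊤ : Subgroup G)) ⟨b, Subgroup.mem_top b⟩))
  obtain ⟨L, hLN, hcop, hsup⟩ := Cfsg.Agent.Helper1.exists_complement_in_normalizer P
  have hPL : (P : Subgroup G) ⊓ L = ⊥ := (Subgroup.disjoint_of_coprime_natCard hcop.symm).eq_bot
  have hpP : p ∣ Nat.card (P : Subgroup G) := by
    obtain ⟨n, hn⟩ := IsPGroup.iff_card.mp P.2
    rcases Nat.eq_zero_or_pos n with h0 | hpos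
    · exfalso; apply hP1; rw [h0, pow_zero] at hn; exact Subgroup.card_eq_one.mp hn
    · rw [hn]; exact dvd_pow_self p hpos.ne'
  have hLp : ¬ p ∣ Nat.card L := by
    intro hdvd
    have h1 : p ∣ Nat.gcd (Nat.card L) (Nat.card (P : Subgroup G)) := Nat.dvd_gcd hdvd hpP
    rw [hcop] at h1
    exact hp.one_lt.ne' (Nat.dvd_one.mp h1)
  have hLab : ∀ a ∈ L, ∀ b ∈ L, a * b = b * a := by
    have hLc : IsMulCommutative L := hab L hLp
    intro a ha b hb
    exact congrArg Subtype.val (mul_comm' (⟨a, ha⟩ : L) ⟨b, hb⟩)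
  have hNC := not_norm_le_cent hna P hcycP hP1
  have hne : ¬ L ≤ Subgroup.centralizer ((P : Subgroup G) : Set G) := by
    intro hLC
    apply hNC
    rw [← hsup]
    refine sup_le (fun a ha => ?_) hLC
    rw [Subgroup.mem_centralizer_iff]
    intro b hb
    exact cyc_comm hcycP b hb a ha
  have hdvd : Nat.card L ∣
      (p - 1) * Nat.card ↥(L ⊓ Subgroup.centralizer ((P : Subgroup G) : Set G)) := by
    have h1 := card_norm_dvd P hcycP
    rw [h3_card_norm P L hPL hsup, h3_card_cent P L hPL hsup hcycP, ← mul_assoc] at h1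
    exact Nat.dvd_of_mul_dvd_mul_right Nat.card_pos h1
  have hQ : ∀ (q : ℕ) [Fact q.Prime], q ≠ p → ∀ Q : Sylow q G, Nat.card Q % p = 1 :=
    fun q _ hqp Q => sylow_q_mod hna hab hmin hT hqp Q
  have hmod := h2_compl_card_mod P hQ L hPL hsup
  have hL0 := h2_L0_ne_bot P hQ L hPL hsup hdvd hne
  obtain ⟨P1, hP1c, hnorm, hTI⟩ := exists_p1 hna P hcycP hP1 hmin hab hT L hPL hsup hL0
  obtain ⟨hp3, hL4, hL02⟩ :=
    h5_count_of_p1 P hcycP L P1 hLab hLN hne hdvd hmod hP1c hnorm hTI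
  subst hp3
  exact h18_final3 hna P hcycP hab hmin L hsup hL4 hL02 P1 hP1c hnorm hTI

end Cfsg.Agent.S4016P
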